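import Cfsg.Agent.H756.PU.Engine
import Cfsg.Agent.H805.PU.Push

/-!
# S5258 engine: (G11) transport, (G12) twisting, (G13) the complement (helper805)
-/

set_option autoImplicit false

namespace Cfsg.Agent.H805.PU

open Cfsg Cfsg.FusionSystem Cfsg.Agent.H759 Cfsg.Agent.H756.PU

universe u

/-- (G11) -/
theorem stTrans : StTrans.{u} := by
  intro Ω _ S _ p _ F G0 _ e hF
  let f : G0 →* Ω := S.subtype.comp e.symm.toMonoidHom
  have hf : Function.Injective f := (Subgroup.subtype_injective S).comp e.symm.injective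
  have hS : S = (⊤ : Subgroup G0).map f := by
    ext x
    constructor
    · intro hx
      refine ⟨e ⟨x, hx⟩, Subgroup.mem_top _, ?_⟩
      show ((e.symm (e ⟨x, hx⟩) : S) : Ω) = x
      rw [e.symm_apply_apply]
    · rintro ⟨y, -, rfl⟩
      exact (e.symm y).2
  have : Finite G0 := Finite.of_equiv _ e.toEquiv
  obtain ⟨F', hF'⟩ := exists_pull' (hf := hf) hS F
  exact ⟨F', hF'.isSaturated_iff.1 hF, H776.Co.isRealizable_push hF'⟩

/-- the automizer of the whole group and its image, transported by an automorphism of the group -/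
theorem AF_push {G0 : Type*} [Group G0] {θ : MulAut G0} {F F' : FusionSystem (⊤ : Subgroup G0)}
    {hθ : Function.Injective θ.toMonoidHom} (h : IsPush hθ F' F) :
    AF F = (AF F').map (MulAut.conj θ).toMonoidHom := by
  have htop : (⊤ : Subgroup G0).map θ.toMonoidHom = ⊤ :=
    Subgroup.map_top_of_surjective _ θ.surjective
  have key : ∀ (P : Subgroup G0) (hP : P = ⊤) (α : MulAut P) (β : MulAut G0),
      (∀ x : P, ((α x : P) : G0) = β x) → (α ∈ F.autGroup P ↔ β ∈ AF F) := by
    intro P hP α β hαβ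
    subst hP
    have h1 : MulAut.congr Subgroup.topEquiv α = β := by
      ext x
      exact hαβ ⟨x, Subgroup.mem_top x⟩
    rw [← h1]
    constructor
    · intro h2; exact ⟨α, h2, rfl⟩
    · rintro ⟨γ, h2, h3⟩
      rwa [← (MulAut.congr Subgroup.topEquiv).injective h3]
  have key' : ∀ (α : MulAut (⊤ : Subgroup G0)),
      α ∈ F'.autGroup ⊤ ↔ MulAut.congr Subgroup.topEquiv α ∈ AF F' := by
    intro α
    constructor
    · intro h2; exact ⟨α, h2, rfl⟩
    · rintro ⟨γ, h2, h3⟩
      rwa [← (MulAut.congr Subgroup.topEquiv).injective h3]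
  have main : ∀ α : MulAut (⊤ : Subgroup G0), α ∈ F'.autGroup ⊤ ↔
      MulAut.conj θ (MulAut.congr Subgroup.topEquiv α) ∈ AF F := by
    intro α
    rw [← h.mem_autGroup_iff]
    apply key _ htop
    intro y
    obtain ⟨x, rfl⟩ := (eqv hθ ⊤).surjective y
    rw [coe_ca_apply]
    show θ (α x : (⊤ : Subgroup G0)) = (θ * MulAut.congr Subgroup.topEquiv α * θ⁻¹) (θ x)
    rw [MulAut.mul_apply, MulAut.mul_apply, MulAut.inv_apply_self]
    rfl
  ext γ
  constructor
  · intro hγ
    refine ⟨MulAut.conj θ⁻¹ γ, ?_, ?_⟩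
    · have h1 := main ((MulAut.congr Subgroup.topEquiv).symm (MulAut.conj θ⁻¹ γ))
      rw [MulEquiv.apply_symm_apply] at h1
      have h2 : MulAut.conj θ (MulAut.conj θ⁻¹ γ) = γ := by
        simp [MulAut.conj_apply, mul_assoc]
      rw [h2] at h1
      have h3 := (key' _).1 (h1.2 hγ)
      rwa [MulEquiv.apply_symm_apply] at h3
    · show MulAut.conj θ (MulAut.conj θ⁻¹ γ) = γ
      simp [MulAut.conj_apply, mul_assoc]
  · rintro ⟨β, ⟨α, hα, rfl⟩, rfl⟩
    exact (main α).1 hα

/-- (G12) -/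
theorem stTwist : StTwist.{u} := by
  intro G0 _ _ p _ F θ hF
  have hinj : Function.Injective (θ⁻¹ : MulAut G0).toMonoidHom := (θ⁻¹ : MulAut G0).injective
  have htop : (⊤ : Subgroup G0) = (⊤ : Subgroup G0).map (θ⁻¹ : MulAut G0).toMonoidHom :=
    (Subgroup.map_top_of_surjective _ (θ⁻¹ : MulAut G0).surjective).symm
  obtain ⟨F', hF'⟩ := exists_pull' (hf := hinj) htop F
  refine ⟨F', hF'.isSaturated_iff.1 hF, H776.Co.isRealizable_push hF', ?_, fun E => ?_⟩
  · rw [AF_push hF', Subgroup.map_map]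
    have : (MulAut.conj θ).toMonoidHom.comp (MulAut.conj θ⁻¹).toMonoidHom = MonoidHom.id _ := by
      ext x
      simp [MulAut.conj_apply, mul_assoc]
    rw [this, Subgroup.map_id]
  · rw [← isEssential_iff hF', Subgroup.map_map]
    have : (θ⁻¹ : MulAut G0).toMonoidHom.comp θ.toMonoidHom = MonoidHom.id _ := by
      ext x
      show θ⁻¹ (θ x) = x
      exact MulAut.inv_apply_self _ _ _
    rw [this, Subgroup.map_id]

/-- (G13) -/
theorem stCompl : StCompl.{u} := by
  intro G0 _ _ p _ F hG hF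
  obtain ⟨Q, ⟨φ, hφ, hr⟩, ⟨-, R, hR⟩, -⟩ := hF ⊤ le_rfl
  have hQ : Q = ⊤ := by
    rw [← hr]
    have h1 : Function.Injective φ := F.injective_of_mem hφ
    have h2 : Nat.card φ.range = Nat.card (⊤ : Subgroup G0) :=
      (Nat.card_congr (Equiv.ofInjective φ h1)).symm
    exact Subgroup.eq_top_of_card_eq _ (by rw [h2]; exact Nat.card_congr Subgroup.topEquiv.toEquiv)
  subst hQ
  have hinn : autInducedBy (⊤ : Subgroup G0) ⊤ = (MulAut.conj : (⊤ : Subgroup G0) →* MulAut (⊤ : Subgroup G0)).range := by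
    ext α
    rw [H802.mem_autInducedBy_iff]
    constructor
    · rintro ⟨g, -, hg⟩
      refine ⟨⟨g, Subgroup.mem_top g⟩, ?_⟩
      ext x
      exact (hg x).symm
    · rintro ⟨g, rfl⟩
      exact ⟨g, Subgroup.mem_top _, fun x => rfl⟩
  have hfin : Finite (MulAut (⊤ : Subgroup G0)) := finite_mulAut
  have hn : ((R : Subgroup (F.autGroup ⊤))).Normal := by
    rw [hR, hinn]
    have : ((MulAut.conj : (⊤ : Subgroup G0) →* MulAut (⊤ : Subgroup G0)).range).Normal := by
      constructor
      rintro _ ⟨g, rfl⟩ α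
      refine ⟨α g, ?_⟩
      ext x
      simp [MulAut.conj_apply]
    exact this.subgroupOf _
  obtain ⟨D, hD⟩ := Subgroup.exists_right_complement'_of_coprime (N := (R : Subgroup (F.autGroup ⊤)))
    R.card_coprime_index
  let ν : MulAut (⊤ : Subgroup G0) →* MulAut G0 := (MulAut.congr Subgroup.topEquiv).toMonoidHom
  have hνinj : Function.Injective ν := (MulAut.congr Subgroup.topEquiv).injective
  refine ⟨(D.map (F.autGroup ⊤).subtype).map ν, ?_, ?_⟩
  · rw [Nat.card_congr ((Subgroup.equivMapOfInjective _ ν hνinj).symm.toEquiv),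
      Nat.card_congr ((Subgroup.equivMapOfInjective _ _ (Subgroup.subtype_injective _)).symm.toEquiv)]
    have h1 : Nat.card D = (R : Subgroup (F.autGroup ⊤)).index := hD.symm.index_eq_card.symm
    rw [h1]
    exact (Nat.Prime.coprime_iff_not_dvd Fact.out).2 R.not_dvd_index |>.symm
  · have h2 : (R : Subgroup (F.autGroup ⊤)).map (F.autGroup ⊤).subtype =
        (MulAut.conj : (⊤ : Subgroup G0) →* MulAut (⊤ : Subgroup G0)).range := by
      rw [hR, hinn, Subgroup.map_subgroupOf_eq_of_le]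
      rw [← hinn]
      exact H802.autInducedBy_le_autGroup F le_rfl
    have h3 : ((R : Subgroup (F.autGroup ⊤)) ⊔ D) = ⊤ := hD.sup_eq_top
    have h4 : (MulAut.conj : G0 →* MulAut G0).range =
        (MulAut.conj : (⊤ : Subgroup G0) →* MulAut (⊤ : Subgroup G0)).range.map ν :=
      (map_inn Subgroup.topEquiv).symm
    rw [h4, ← h2, ← Subgroup.map_sup, ← Subgroup.map_sup, h3]
    show _ = (F.autGroup ⊤).map ν
    congr 1
    rw [← MonoidHom.range_eq_map, Subgroup.range_subtype]

end Cfsg.Agent.H805.PU
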